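import Mathlib
import Cfsg.Agent.CoOut.Co1Basic

/-! Three classes with sum zero whose shifts by the base class are separated by a stabiliser: the
certificate excluding the exchange of the two fixed classes. -/

set_option autoImplicit false

namespace CfsgLib.CoOut

open Cfsg CfsgLib.Leech

/-- The translation letter. -/
def lS : Co0 := permHom shiftM
/-- The cubing letter. -/
def lC : Co0 := permHom cuM
/-- The inversion letter. -/
def lZ : Co0 := permHom zM
/-- The sign letter. -/
def lE : Co0 := signs (qrWord 0) (qrWord_mem_code 0)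

/-- A word taking the base class to the class of `wTwo`. -/
def wordOne : Co0 := lS * lS * lS * xi * lC * lS * lC * lS * lZ * xi * lC * lS * lS * xi
/-- The second word. -/
def wordTwo : Co0 := lZ * lS * lS * lC * lS * lZ
/-- The third word. -/
def wordThree : Co0 := lE * lS * lC * lE * lS * lC * lE * lS * lC * lC * lC * lZ * lS

/-- A vector given by its list of coordinates. -/
def vecOfList (l : List ℤ) : GolayPt → ℤ := fun p => l.getD (ptIdx p) 0

/-- The pull-back of the second class. -/
def tTwo : leechLattice :=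
  ⟨vecOfList [0, 0, 0, 0, 0, 0, 0, 0, 0, 0, 4, 0, 0, 0, -4, 0, 0, 0, 0, 4, 0, 4, 0, 0],
    mem_leech_of_check (by decide +kernel)⟩

/-- The pull-back of the third class. -/
def tThree : leechLattice :=
  ⟨vecOfList [0, 4, 0, -2, 2, -2, 2, 0, -2, 2, 2, 0, 2, 0, 0, -2, 0, 0, 0, 2, 2, 0, -2, 0],
    mem_leech_of_check (by decide +kernel)⟩

theorem certificate :
    HalfCheck ((wordOne • axisVec none : leechLattice) : GolayPt → ℤ) (wTwo : GolayPt → ℤ) ∧
    HalfCheck ((wA + wordTwo • wA + wordThree • wA : leechLattice) : GolayPt → ℤ)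
      ((0 : leechLattice) : GolayPt → ℤ) ∧
    HalfCheck ((wordOne • tTwo : leechLattice) : GolayPt → ℤ)
      ((wordTwo • wTwo : leechLattice) : GolayPt → ℤ) ∧
    HalfCheck ((lE • tTwo : leechLattice) : GolayPt → ℤ) (tTwo : GolayPt → ℤ) ∧
    HalfCheck ((wordOne • tThree : leechLattice) : GolayPt → ℤ)
      ((wordThree • wTwo : leechLattice) : GolayPt → ℤ) ∧
    ¬ HalfCheck ((lE • tThree : leechLattice) : GolayPt → ℤ) (tThree : GolayPt → ℤ) := by
  decide +kernel

theorem cls_add {u u' w w' : leechLattice} (h : cls u = cls u') (h' : cls w = cls w') :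
    cls (u + w) = cls (u' + w') :=
  cls_eq.2 (Cg.add (cls_eq.1 h) (cls_eq.1 h'))

/-- An element fixing the first two classes fixes the third. -/
theorem fix_third {k : Spor.Co1} (hA : k • clsA = clsA)
    (h2 : k • cls (wordTwo • wA) = cls (wordTwo • wA)) :
    k • cls (wordThree • wA) = cls (wordThree • wA) := by
  obtain ⟨g, rfl⟩ := QuotientGroup.mk'_surjective _ k
  change g • cls wA = cls wA at hA
  change g • cls (wordTwo • wA) = cls (wordTwo • wA) at h2
  show g • cls (wordThree • wA) = cls (wordThree • wA)
  rw [smul_cls] at hA h2 ⊢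
  have hs : cls (wA + wordTwo • wA + wordThree • wA) = cls 0 := cls_eq_iff_check.2 certificate.2.1
  have h3 : cls (wordThree • wA) = cls (wA + wordTwo • wA) := by
    have h0 : cls (-(wA + wordTwo • wA)) = cls (wA + wordTwo • wA) := cls_eq.2 (cg_neg _)
    have := cls_add hs (rfl : cls (-(wA + wordTwo • wA)) = cls (-(wA + wordTwo • wA)))
    rw [zero_add, show wA + wordTwo • wA + wordThree • wA + -(wA + wordTwo • wA) =
      wordThree • wA by abel] at this
    exact this.trans h0
  calc cls (g • wordThree • wA) = g • cls (wordThree • wA) := rfl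
    _ = cls (g • wA + g • (wordTwo • wA)) := by rw [h3, smul_cls, co0_map_add]
    _ = cls (wA + wordTwo • wA) := cls_add hA h2
    _ = cls (wordThree • wA) := h3.symm

/-- The separating element fixes the first two shifted classes and moves the third. -/
theorem separated :
    ∃ k : Spor.Co1, k • clsB = clsB ∧ k • cls (wordTwo • wTwo) = cls (wordTwo • wTwo) ∧
      k • cls (wordThree • wTwo) ≠ cls (wordThree • wTwo) := by
  obtain ⟨c1, -, c3, c4, c5, c6⟩ := certificate
  refine ⟨toCo1 (wordOne * lE * wordOne⁻¹), ?_, ?_, ?_⟩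
  · have hB : clsB = cls (wordOne • axisVec none) := (cls_eq_iff_check.2 c1).symm
    rw [hB, toCo1_cls, mul_smul, mul_smul, inv_smul_smul, ← smul_cls wordOne]
    rw [show cls (lE • axisVec none) = cls (axisVec none) from
      cls_eq.2 (signs_axisVec_cg _ _ none)]
    rfl
  · rw [← cls_eq_iff_check.2 c3, toCo1_cls, mul_smul, mul_smul, inv_smul_smul, ← smul_cls wordOne,
      cls_eq_iff_check.2 c4, smul_cls]
  · rw [← cls_eq_iff_check.2 c5, toCo1_cls, mul_smul, mul_smul, inv_smul_smul, ← smul_cls wordOne,
      ← smul_cls wordOne tThree]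
    exact fun h => c6 (cls_eq_iff_check.1 (MulAction.injective wordOne h))

end CfsgLib.CoOut
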