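import Mathlib
import Cfsg.Agent.CoOut.Co1Cert

/-! Every automorphism of `Co1` is inner: after an inner correction it fixes the copy of `M23`, then
the copy of `M24`, then the stabiliser of the frame, and finally an element of the normaliser of the
Sylow subgroup for 11 moving the frame. -/

set_option autoImplicit false
set_option linter.style.haveILetI false

namespace CfsgLib.CoOut

open Cfsg CfsgLib.Leech
open scoped Pointwise

instance finite_co1 : Finite Spor.Co1 := by
  haveI : Finite Co0 := finite_co0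
  infer_instance

local notation "Ns" => Subgroup.normalizer ((Subgroup.zpowers sB : Subgroup Spor.Co1) : Set Spor.Co1)
local notation "Nd" => Subgroup.normalizer ((Subgroup.zpowers dB : Subgroup Spor.Co1) : Set Spor.Co1)
local notation "N55" =>
  Subgroup.normalizer ((Subgroup.zpowers dM : Subgroup Spor.M23) : Set Spor.M23)

theorem sq23_co1 : ¬ 23 ^ 2 ∣ Nat.card Spor.Co1 := by rw [card_co1]; norm_num

theorem sq11_co1 : ¬ 11 ^ 2 ∣ Nat.card Spor.Co1 := by rw [card_co1]; norm_num

/-! ### The normaliser of the translation -/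

theorem card_centralizer_sB : Nat.card (Subgroup.centralizer ({sB} : Set Spor.Co1)) ≤ 23 := by
  have hle : Subgroup.centralizer ({sB} : Set Spor.Co1) ≤ Subgroup.zpowers sB := fun x hx =>
    centralizer_shiftB (Subgroup.mem_centralizer_singleton_iff.1 hx)
  have := Nat.card_le_card_of_injective _ (Subgroup.inclusion_injective hle)
  rwa [Nat.card_zpowers, orderOf_sB] at this

theorem card_centralizer_sM : Nat.card (Subgroup.centralizer ({sM} : Set Spor.M23)) ≤ 23 := by
  refine le_trans (Nat.card_le_card_of_injective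
    (fun x => (⟨iota23 x.1, Subgroup.mem_centralizer_singleton_iff.2 ?_⟩ :
      Subgroup.centralizer ({sB} : Set Spor.Co1))) ?_) card_centralizer_sB
  · rw [← map_mul, Subgroup.mem_centralizer_singleton_iff.1 x.2, map_mul]
  · exact fun a b e => Subtype.ext (iota23_injective (congrArg Subtype.val e))

theorem iota23_mem_normalizer {a x : Spor.M23}
    (hx : x ∈ Subgroup.normalizer ((Subgroup.zpowers a : Subgroup Spor.M23) : Set Spor.M23)) :
    iota23 x ∈
      Subgroup.normalizer ((Subgroup.zpowers (iota23 a) : Subgroup Spor.Co1) : Set Spor.Co1) := by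
  refine mem_normalizer_zpowers_iff.2 ?_
  obtain ⟨n, hn⟩ := Subgroup.mem_zpowers_iff.1 (mem_normalizer_zpowers_iff.1 hx)
  exact Subgroup.mem_zpowers_iff.2 ⟨n, by rw [← map_zpow, hn, map_mul, map_mul, map_inv]⟩

theorem normalizer_sB_range {x : Spor.Co1} (hx : x ∈ Ns) : x ∈ iota23.range := by
  set N := Subgroup.normalizer ((Subgroup.zpowers sM : Subgroup Spor.M23) : Set Spor.M23)
  have h1 := card_normalizer_eq (by norm_num : Nat.Prime 23) sq23_co1 orderOf_sB card_centralizer_sB
  have h2 := card_normalizer_eq (by norm_num : Nat.Prime 23) (by rw [card_M23_eq]; norm_num)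
    orderOf_sM card_centralizer_sM
  have hle : N.map iota23 ≤ Ns := by
    rintro _ ⟨y, hy, rfl⟩; exact iota23_mem_normalizer hy
  have heq : N.map iota23 = Ns := by
    refine Subgroup.eq_of_le_of_card_ge hle (le_of_eq ?_)
    rw [Subgroup.card_map_of_injective iota23_injective, h1, h2, card_co1, card_M23_eq]
  obtain ⟨y, -, rfl⟩ := heq.ge hx
  exact ⟨y, rfl⟩

/-! ### The normaliser of the doubling map -/

theorem dB_pow_fix (n : ℤ) : dB ^ n • baseCls = baseCls :=
  (MulAction.stabilizer Spor.Co1 baseCls).zpow_mem (smul_base_iff.2 (iota_mem_F1 _)) n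

theorem normal_base {x : Spor.Co1} (hx : x ∈ Nd) :
    x • baseCls = baseCls ∨ x • baseCls = clsA ∨ x • baseCls = clsB := by
  obtain ⟨n, hn⟩ := Subgroup.mem_zpowers_iff.1
    (mem_normalizer_zpowers_iff.1 (Subgroup.inv_mem _ hx))
  rw [inv_inv] at hn
  have hd : dB • x • baseCls = x • baseCls := by
    have h := dB_pow_fix n
    rw [hn, mul_smul, mul_smul, inv_smul_eq_iff] at h
    exact h
  obtain ⟨t, rfl⟩ := QuotientGroup.mk'_surjective _ x
  exact fixed_class (u := t • axisVec none) (by rw [co0_sqNorm, sqNorm_axisVec]) (cls_eq.1 hd)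

theorem epsB_mem : epsB ∈ Nd := mem_normalizer_zpowers_iff.2 (by
  rw [epsB_comm_dB, mul_inv_cancel_right]; exact Subgroup.mem_zpowers _)

theorem zM_conj : zM * doubleM * zM = doubleM⁻¹ := eq_inv_of_mul_eq_one_left zM_facts.2

theorem zB_mem : iota zM ∈ Nd := mem_normalizer_zpowers_iff.2 (by
  rw [dB_eq, ← map_inv, ← map_mul, ← map_mul, inv_eq_of_mul_eq_one_right zM_facts.1, zM_conj,
    map_inv]
  exact Subgroup.inv_mem _ (Subgroup.mem_zpowers _))

theorem mono_swap {c : golayCode} {σ σ' τ : M24}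
    (h : mono c τ * iota σ = iota σ' * mono c τ) :
    τ * σ = σ' * τ ∧ (permW σ' c = c ∨ permW σ' c = c + oneW) := by
  rw [iota_eq, iota_eq, mono_mul, mono_mul, zero_add, permW_zero, add_zero] at h
  exact mono_eq_iff.1 h

theorem sign_in_N {c : golayCode} (h : mono c 1 ∈ Nd) : mono c 1 = 1 ∨ mono c 1 = epsB := by
  obtain ⟨n, hn⟩ := Subgroup.mem_zpowers_iff.1 (mem_normalizer_zpowers_iff.1 h)
  have hsw : mono c 1 * iota doubleM = iota (doubleM ^ n) * mono c 1 := by
    rw [map_zpow, ← dB_eq, hn, inv_mul_cancel_right]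
  obtain ⟨h1, h2⟩ := mono_swap hsw
  rw [one_mul, mul_one] at h1
  rw [← h1] at h2
  exact sign_fix_double h2

theorem m23_pow55 {μ : Spor.M23} (hμ : μ ∈ N55) : μ ^ 55 = 1 :=
  orderOf_dvd_iff_pow_eq_one.1 (card_normalizer_dM ▸ Subgroup.orderOf_dvd_natCard N55 hμ)

theorem m24_centralizer_double {τ : M24} (hc : τ * doubleM = doubleM * τ) :
    τ ∈ Subgroup.zpowers doubleM := by
  have h := congrArg (fun g : M24 => g.1 none) hc
  simp only [Subgroup.coe_mul, Equiv.Perm.mul_apply,
    show (doubleM : Equiv.Perm GolayPt) = double from rfl, double_facts.2.1] at h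
  rcases double_fix_iff h.symm with e | e
  · exact double_centralizer e (fix_zero e hc) hc
  · exfalso
    set ν : M24 := zM * τ with hν
    have hνd : ν * doubleM = doubleM⁻¹ * ν := by
      rw [hν, mul_assoc, hc, ← zM_conj]
      calc zM * (doubleM * τ) = zM * doubleM * (zM * zM) * τ := by
            rw [zM_facts.1]; simp only [mul_one, mul_assoc]
        _ = zM * doubleM * zM * (zM * τ) := by simp only [mul_assoc]
    have hν0 : ν.1 none = none := by
      show projInv (τ.1 none) = none
      rw [e]; decide +kernel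
    let μ : Spor.M23 := ⟨ν.1, ν.2, hν0⟩
    have hμd : μ * dM = dM⁻¹ * μ := toM24_injective (by
      rw [map_mul, map_mul, map_inv]; exact hνd)
    have hμN : μ ∈ N55 := mem_normalizer_zpowers_iff.2 (by
      rw [hμd, mul_inv_cancel_right]; exact Subgroup.inv_mem _ (Subgroup.mem_zpowers _))
    have h2 : Commute (μ ^ 2) dM := by
      have h3 : μ * dM⁻¹ = dM * μ := by
        calc μ * dM⁻¹ = dM * (dM⁻¹ * μ) * dM⁻¹ := by group
          _ = dM * (μ * dM) * dM⁻¹ := by rw [hμd]
          _ = dM * μ := by group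
      rw [sq]
      calc μ * μ * dM = μ * (dM⁻¹ * μ) := by rw [mul_assoc, hμd]
        _ = dM * μ * μ := by rw [← mul_assoc, h3]
        _ = dM * (μ * μ) := mul_assoc _ _ _
    have h1 : Commute μ dM := by
      have := h2.pow_left 28
      rwa [← pow_mul, show 2 * 28 = 55 + 1 from rfl, pow_succ, m23_pow55 hμN, one_mul] at this
    rw [h1.eq, mul_left_inj, eq_inv_iff_mul_eq_one, ← sq] at hμd
    have := orderOf_dvd_of_pow_eq_one hμd
    rw [orderOf_dM] at this
    norm_num at this

theorem eps_comm_N55 {μ : Spor.M23} (hμ : μ ∈ N55) : iota23 μ * epsB = epsB * iota23 μ := by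
  have hN : iota23 μ * epsB * (iota23 μ)⁻¹ ∈ Nd :=
    Subgroup.mul_mem _ (Subgroup.mul_mem _ (iota23_mem_normalizer hμ) epsB_mem)
      (Subgroup.inv_mem _ (iota23_mem_normalizer hμ))
  have hm : iota23 μ * epsB * (iota23 μ)⁻¹ = mono (permW (toM24 μ) qW) 1 := by
    rw [show iota23 μ = iota (toM24 μ) from rfl, mul_inv_eq_iff_eq_mul, iota_eq, epsB, mono_mul,
      mono_mul, zero_add, one_mul, mul_one, permW_one, add_zero]
  rcases sign_in_N (hm ▸ hN) with e | e <;> rw [← hm, mul_inv_eq_iff_eq_mul] at e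
  · exact absurd (mul_left_cancel (e.trans ((one_mul _).trans (mul_one _).symm))) epsB_ne_one
  · exact e

theorem mono_pow (c : golayCode) (τ : M24) (n : ℕ) : ∃ c', mono c τ ^ n = mono c' (τ ^ n) := by
  induction n with
  | zero => exact ⟨0, by rw [pow_zero, pow_zero, mono_zero]⟩
  | succ n ih =>
    obtain ⟨c', hc'⟩ := ih
    exact ⟨_, by rw [pow_succ, hc', mono_mul, ← pow_succ]⟩

theorem odd_normal {y : Spor.Co1} (hy : y ∈ Nd) (h55 : y ^ 55 = 1) : y ∈ iota23.range := by
  have hbase : y • baseCls = baseCls :=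
    fix_of_three h55 (by norm_num) (by norm_num) fun n => normal_base (Subgroup.pow_mem _ hy n)
  obtain ⟨c, τ, rfl⟩ := mem_F1_iff.1 (smul_base_iff.1 hbase)
  have hτ55 : τ ^ 55 = 1 := by
    obtain ⟨c', hc'⟩ := mono_pow c τ 55
    rw [h55] at hc'
    exact (mono_cases hc'.symm).1
  obtain ⟨n, hn⟩ := Subgroup.mem_zpowers_iff.1 (mem_normalizer_zpowers_iff.1 hy)
  have hsw : mono c τ * iota doubleM = iota (doubleM ^ n) * mono c τ := by
    rw [map_zpow, ← dB_eq, hn, inv_mul_cancel_right]
  have hτN : τ ∈ Subgroup.normalizer ((Subgroup.zpowers doubleM : Subgroup M24) : Set M24) :=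
    mem_normalizer_zpowers_iff.2
      (Subgroup.mem_zpowers_iff.2 ⟨n, by rw [(mono_swap hsw).1, mul_inv_cancel_right]⟩)
  obtain ⟨m, hm⟩ := Subgroup.mem_zpowers_iff.1
    (mem_normalizer_zpowers_iff.1 (Subgroup.inv_mem _ hτN))
  rw [inv_inv] at hm
  have hfix : ∀ p, double p = p → double (τ.1 p) = τ.1 p := by
    intro p hp
    have h1 : doubleM * τ = τ * doubleM ^ m := by rw [hm]; group
    have h2 := congrArg (fun g : M24 => g.1 p) h1
    simp only [Subgroup.coe_mul, Subgroup.coe_zpow, Equiv.Perm.mul_apply] at h2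
    have h3 : ((doubleM : Equiv.Perm GolayPt) ^ m) p = p :=
      (MulAction.stabilizer (Equiv.Perm GolayPt) p).zpow_mem hp m
    rw [h3] at h2
    exact h2
  have hnone : τ.1 none = none := by
    rcases double_fix_iff (hfix none double_facts.2.1) with e | e
    · exact e
    have h0 : τ.1 (some 0) = none := by
      rcases double_fix_iff (hfix _ double_facts.2.2.1) with e' | e'
      · exact e'
      · exact absurd (τ.1.injective (e'.trans e.symm)) (Option.some_ne_none _)
    have h2 : τ ^ 2 ∈ MulAction.stabilizer M24 (none : GolayPt) := by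
      show (τ.1 ^ 2) none = none
      rw [sq, Equiv.Perm.mul_apply, e, h0]
    have h3 : τ ∈ MulAction.stabilizer M24 (none : GolayPt) := by
      have := Subgroup.pow_mem _ h2 28
      rwa [← pow_mul, show 2 * 28 = 55 + 1 from rfl, pow_succ, hτ55, one_mul] at this
    exact h3
  let μ : Spor.M23 := ⟨τ.1, τ.2, hnone⟩
  have hμN : μ ∈ N55 := by
    refine mem_normalizer_zpowers_iff.2 ?_
    refine Subgroup.mem_zpowers_iff.2 ⟨n, toM24_injective ?_⟩
    rw [map_zpow, map_mul, map_mul, map_inv]
    show doubleM ^ n = τ * doubleM * τ⁻¹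
    rw [(mono_swap hsw).1, mul_inv_cancel_right]
  have hq : mono c τ = mono c 1 * iota23 μ := by
    show _ = mono c 1 * iota τ
    rw [iota_eq, mono_mul, one_mul, permW_one, add_zero]
  have hqN : mono c 1 ∈ Nd := by
    have := Subgroup.mul_mem _ hy (Subgroup.inv_mem _ (iota23_mem_normalizer hμN))
    rwa [hq, mul_inv_cancel_right] at this
  rcases sign_in_N hqN with e | e
  · exact ⟨μ, by rw [hq, e, one_mul]⟩
  · exfalso
    rw [hq, e, (show Commute epsB (iota23 μ) from (eps_comm_N55 hμN).symm).mul_pow, ← map_pow,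
      m23_pow55 hμN, map_one, mul_one, show 55 = 2 * 27 + 1 from rfl, pow_succ, pow_mul, sq,
      epsB_sq, one_pow, one_mul] at h55
    exact epsB_ne_one h55

/-! ### An automorphism fixing `M23` -/

theorem exists_fix_m23 (φ : MulAut Spor.Co1) :
    ∃ g : Spor.Co1, ∀ μ, (MulAut.conj g * φ) (iota23 μ) = iota23 μ := by
  have hdN : dB ∈ Ns := by
    refine iota23_mem_normalizer (mem_normalizer_zpowers_iff.2 (Subgroup.mem_zpowers_iff.2 ⟨2, ?_⟩))
    have hh : ∀ p : GolayPt, (double * shift * double⁻¹) p = (shift * shift) p := by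
      decide +kernel
    exact Subtype.ext ((zpow_two (shift : Equiv.Perm GolayPt)).trans (Equiv.ext hh).symm)
  obtain ⟨g, hs, hd⟩ := exists_conj_adjust (by norm_num : Nat.Prime 23) (by norm_num : Nat.Prime 11)
    sq23_co1 sq11_co1 orderOf_sB orderOf_dB hdN φ
  set φ2 : MulAut Spor.Co1 := MulAut.conj g * φ
  let W : Subgroup Spor.M23 := iota23.range.comap (φ2.toMonoidHom.comp iota23)
  have hW : W = ⊤ := by
    refine top_unique (le_trans normalizers_generate.ge (sup_le (fun x hx => ?_) fun x hx => ?_))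
    · exact normalizer_sB_range (map_mem_normalizer φ2 hs (iota23_mem_normalizer hx))
    · exact odd_normal (map_mem_normalizer φ2 hd (iota23_mem_normalizer hx))
        (by show φ2 (iota23 x) ^ 55 = 1; rw [← map_pow, ← map_pow, m23_pow55 hx, map_one, map_one])
  have hb : ∀ τ, ∃ τ', iota23 τ' = φ2 (iota23 τ) := fun τ =>
    (show τ ∈ W by rw [hW]; exact Subgroup.mem_top τ)
  choose b hb using hb
  let β : Spor.M23 →* Spor.M23 := MonoidHom.mk' b fun x y => iota23_injective (by
    rw [hb, map_mul, map_mul, map_mul, hb, hb])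
  have hβinj : Function.Injective β := fun x y e => iota23_injective (φ2.injective (by
    rw [← hb, ← hb]; exact congrArg iota23 e))
  let βe : MulAut Spor.M23 := MulEquiv.ofBijective β (Finite.injective_iff_bijective.1 hβinj)
  obtain ⟨τ0, hτ0⟩ : βe ∈ Cfsg.Inn Spor.M23 := CfsgLib.Mathieu.inn_M23 βe
  refine ⟨(iota23 τ0)⁻¹ * g, fun μ => ?_⟩
  have h1 : τ0 * μ * τ0⁻¹ = b μ := DFunLike.congr_fun hτ0 μ
  rw [map_mul, mul_assoc, MulAut.mul_apply, show (MulAut.conj g * φ) (iota23 μ) = φ2 (iota23 μ)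
    from rfl, ← hb, ← h1, MulAut.conj_apply, map_mul, map_mul, map_inv]
  group

variable {ψ : MulAut Spor.Co1}

theorem gM_conj_none : (zM * gM * zM).1 none = none := by decide +kernel

theorem fix_zB (hψ : ∀ μ, ψ (iota23 μ) = iota23 μ) : ψ (iota zM) = iota zM := by
  set p := ψ (iota zM) with hp
  have hψd : ψ dB = dB := hψ dM
  have hpN : p ∈ Nd := map_mem_normalizer ψ (by rw [hψd]; exact Subgroup.mem_zpowers _) zB_mem
  set g' : M24 := zM * gM * zM with hg'
  have hg : ψ (iota gM) = iota gM := hψ ⟨gM.1, gM.2, gM_facts.1⟩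
  have hgg : ψ (iota g') = iota g' := hψ ⟨g'.1, g'.2, gM_conj_none⟩
  have hz2 : zM * zM = 1 := zM_facts.1
  have hrel : iota gM * p = p * iota g' := by
    rw [hp, ← hg, ← hgg, ← map_mul, ← map_mul, ← map_mul, ← map_mul, hg', ← mul_assoc, ← mul_assoc,
      hz2, one_mul]
  have hbase : p • baseCls = baseCls := by
    have h1 : iota gM • p • baseCls = p • baseCls := by
      rw [← mul_smul, hrel, mul_smul, smul_base_iff.2 (iota_mem_F1 g')]
    rcases normal_base hpN with e | e | e
    · exact e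
    · rw [e] at h1; exact absurd h1 gM_cls.1
    · rw [e] at h1; exact absurd h1 gM_cls.2
  obtain ⟨c, τ, hcτ⟩ := mem_F1_iff.1 (smul_base_iff.1 hbase)
  have hd : p * iota doubleM = iota (doubleM⁻¹) * p := by
    rw [map_inv, ← dB_eq, hp]
    nth_rewrite 1 [← hψd]
    nth_rewrite 2 [← hψd]
    rw [← map_inv, ← map_mul, ← map_mul]
    congr 1
    rw [dB_eq, ← map_inv, ← map_mul, ← map_mul, ← zM_conj, mul_assoc (zM * doubleM), hz2, mul_one]
  rw [hcτ] at hd hrel
  have h1 := (mono_swap hd).1
  have h2 := (mono_swap hrel.symm).1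
  set μ : M24 := zM * τ with hμdef
  have hμd : μ * doubleM = doubleM * μ := by
    rw [hμdef, mul_assoc, h1, ← zM_conj]
    simp only [← mul_assoc, hz2, one_mul]
  have hμg : μ * g' = g' * μ := by
    rw [hμdef, mul_assoc, h2, hg']
    simp only [mul_assoc, ← mul_assoc zM zM, hz2, one_mul]
  have hμ1 : μ = 1 := by
    by_contra hne
    have hmem := m24_centralizer_double hμd
    have he : Subgroup.zpowers μ = Subgroup.zpowers doubleM :=
      Subgroup.eq_of_le_of_card_ge (Subgroup.zpowers_le.2 hmem) (by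
        have h := Subgroup.orderOf_dvd_natCard _ hmem
        rw [Nat.card_zpowers, doubleM_orderOf] at h
        rcases (Nat.dvd_prime (by norm_num : Nat.Prime 11)).1 h with e | e
        · exact absurd (orderOf_eq_one_iff.1 e) hne
        · rw [Nat.card_zpowers, Nat.card_zpowers, e, doubleM_orderOf])
    obtain ⟨n, hn⟩ := Subgroup.mem_zpowers_iff.1 (he.ge (Subgroup.mem_zpowers doubleM))
    have hc : g' * doubleM = doubleM * g' := by
      rw [← hn]
      exact ((show Commute g' μ from hμg.symm).zpow_right n).eq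
    have hc2 : Commute gM (doubleM⁻¹) := by
      show gM * doubleM⁻¹ = doubleM⁻¹ * gM
      rw [← zM_conj]
      calc gM * (zM * doubleM * zM) = zM * (g' * doubleM) * zM := by
            rw [hg']; simp only [← mul_assoc, hz2, one_mul]
        _ = zM * (doubleM * g') * zM := by rw [hc]
        _ = zM * doubleM * zM * gM := by
            rw [hg']; simp only [mul_assoc, hz2, mul_one]
    exact gM_facts.2.2.1 (congrArg Subtype.val (Commute.inv_right_iff.1 hc2).eq)
  have hτ : τ = zM := by
    rw [hμdef] at hμ1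
    calc τ = zM * (zM * τ) := by rw [← mul_assoc, hz2, one_mul]
      _ = zM := by rw [hμ1, mul_one]
  rw [hτ] at hcτ
  have hq : p = mono c 1 * iota zM := by
    rw [hcτ, iota_eq, mono_mul, one_mul, permW_one, add_zero]
  have hqN : mono c 1 ∈ Nd := by
    have := Subgroup.mul_mem _ hpN (Subgroup.inv_mem _ zB_mem)
    rwa [hq, mul_inv_cancel_right] at this
  rcases sign_in_N hqN with e | e
  · rw [hq, e, one_mul]
  · exfalso
    rw [hτ, ← hcτ, hq, e] at hrel
    have h3 : iota gM * epsB = epsB * iota gM := by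
      refine mul_right_cancel (b := iota zM) ?_
      rw [mul_assoc, hrel, mul_assoc, mul_assoc, ← map_mul, ← map_mul, hg', ← mul_assoc,
        ← mul_assoc, hz2, one_mul]
    have h4 : iota g' * epsB = epsB * iota g' := by
      rw [hg', map_mul, map_mul]
      calc iota zM * iota gM * iota zM * epsB
          = iota zM * iota gM * (iota zM * epsB) := by simp only [mul_assoc]
        _ = iota zM * (iota gM * epsB) * iota zM := by rw [zB_comm_epsB]; simp only [mul_assoc]
        _ = iota zM * epsB * iota gM * iota zM := by rw [h3]; simp only [mul_assoc]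
        _ = epsB * (iota zM * iota gM * iota zM) := by rw [zB_comm_epsB]; simp only [mul_assoc]
    obtain ⟨-, h5⟩ := mono_swap (σ := g') (σ' := g') (c := qW) (τ := 1) h4.symm
    rcases h5 with h5 | h5
    · exact gM_facts.2.2.2 fun i => congrFun (congrArg Subtype.val h5) i
    · have h6 : qrWord 0 (g'.1.symm none) = qrWord 0 none + 1 :=
        congrFun (congrArg Subtype.val h5) none
      rw [show g'.1.symm none = none from (Equiv.symm_apply_eq _).2 gM_conj_none.symm] at h6
      exact zero_ne_one (add_left_cancel ((add_zero (qrWord 0 none)).trans h6))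

theorem fix_iota (hψ : ∀ μ, ψ (iota23 μ) = iota23 μ) (σ : M24) : ψ (iota σ) = iota σ := by
  have h23 : ∀ τ : M24, τ.1 none = none → ψ (iota τ) = iota τ := fun τ h =>
    hψ ⟨τ.1, τ.2, h⟩
  by_cases h : σ.1 none = none
  · exact h23 σ h
  obtain ⟨τ, hτ0, hτ⟩ := m24_two_transitive (a := some 0) (Option.some_ne_none _) h
  have hρ : ((τ * zM)⁻¹ * σ).1 none = none := by
    show (τ.1 * projInv)⁻¹ (σ.1 none) = none
    rw [Equiv.Perm.inv_eq_iff_eq, Equiv.Perm.mul_apply, ← hτ]
    rfl
  have h1 := h23 _ hρ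
  rw [show σ = τ * zM * ((τ * zM)⁻¹ * σ) by rw [mul_inv_cancel_left], map_mul, map_mul, map_mul,
    map_mul, h23 τ hτ0, fix_zB hψ, h1]

theorem fix_eps (hψ : ∀ μ, ψ (iota23 μ) = iota23 μ) : ψ epsB = epsB := by
  set p := ψ epsB with hp
  have hψd : ψ dB = dB := hψ dM
  have hcd : p * dB = dB * p := by
    rw [hp, ← hψd, ← map_mul, ← map_mul, epsB_comm_dB]
  have hcz : iota zM * p = p * iota zM := by
    rw [hp, ← fix_zB hψ, ← map_mul, ← map_mul, zB_comm_epsB]
  have hpN : p ∈ Nd := mem_normalizer_zpowers_iff.2 (by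
    rw [hcd, mul_inv_cancel_right]; exact Subgroup.mem_zpowers _)
  have hbase : p • baseCls = baseCls := by
    have h1 : iota zM • p • baseCls = p • baseCls := by
      rw [← mul_smul, hcz, mul_smul, zB_cls.2.2]
    rcases normal_base hpN with e | e | e
    · exact e
    · rw [e, zB_cls.1] at h1; exact absurd h1.symm cls_distinct.2.2
    · rw [e, zB_cls.2.1] at h1; exact absurd h1 cls_distinct.2.2
  obtain ⟨c, τ, hcτ⟩ := mem_F1_iff.1 (smul_base_iff.1 hbase)
  have h1 : τ * doubleM = doubleM * τ := (mono_swap (by rw [← hcτ, ← dB_eq]; exact hcd)).1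
  have h11 : τ ^ 11 = 1 := by
    obtain ⟨n, hn⟩ := Subgroup.mem_zpowers_iff.1 (m24_centralizer_double h1)
    rw [← hn, ← zpow_natCast, ← zpow_mul, mul_comm, zpow_mul, zpow_natCast, doubleM_pow, one_zpow]
  have h2 : τ * τ = 1 := by
    have h : p * p = 1 := by rw [hp, ← map_mul, epsB_sq, map_one]
    rw [hcτ, mono_mul] at h
    exact (mono_cases h).1
  have hτ : τ = 1 := by
    rwa [show 11 = 2 * 5 + 1 from rfl, pow_succ, pow_mul, sq, h2, one_pow, one_mul] at h11
  rw [hτ] at hcτ
  rcases sign_in_N (hcτ ▸ hpN) with e | e <;> rw [← hcτ] at e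
  · exact absurd (ψ.injective (e.trans (map_one ψ).symm)) epsB_ne_one
  · exact e

theorem qrWord_shift : ∀ t p, qrWord t (shift.symm p) = qrWord (t + 1) p := by
  decide +kernel

theorem qrWord_shift_pow (k : ℕ) : ∀ p, qrWord 0 ((shiftM ^ k).1.symm p) = qrWord (k : ZMod 23) p := by
  induction k with
  | zero => intro p; rfl
  | succ k ih =>
    intro p
    rw [Nat.cast_succ, ← qrWord_shift, ← ih]
    refine congrArg (qrWord 0) ?_
    rw [Equiv.symm_apply_eq, pow_succ']
    show p = shift ((shiftM ^ k).1 ((shiftM ^ k).1.symm (shift.symm p)))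
    rw [Equiv.apply_symm_apply, Equiv.apply_symm_apply]

theorem fix_F1 (hψ : ∀ μ, ψ (iota23 μ) = iota23 μ) {x : Spor.Co1} (hx : x ∈ F1) : ψ x = x := by
  have hsig : ∀ c (hc : c ∈ golayCode), ψ (mono ⟨c, hc⟩ 1) = mono ⟨c, hc⟩ 1 := by
    intro c hc
    refine Submodule.span_induction (p := fun c hc => ψ (mono ⟨c, hc⟩ 1) = mono ⟨c, hc⟩ 1)
      ?_ ?_ ?_ ?_ hc
    · rintro z (⟨t, rfl⟩ | rfl)
      · have h : mono ⟨qrWord t, qrWord_mem_code t⟩ 1 =
            iota (shiftM ^ t.val) * epsB * iota ((shiftM ^ t.val)⁻¹) := by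
          rw [iota_eq, iota_eq, epsB, mono_mul, mono_mul, zero_add, mul_one, mul_inv_cancel,
            show permW (shiftM ^ t.val) 0 = 0 from rfl, add_zero]
          congr 1
          refine Subtype.ext (funext fun p => ?_)
          show qrWord t p = qrWord 0 ((shiftM ^ t.val).1.symm p)
          rw [qrWord_shift_pow, ZMod.natCast_zmod_val]
        change ψ (mono ⟨qrWord t, qrWord_mem_code t⟩ 1) = mono ⟨qrWord t, qrWord_mem_code t⟩ 1
        rw [h, map_mul, map_mul, fix_iota hψ, fix_iota hψ, fix_eps hψ]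
      · change ψ (mono oneW 1) = mono oneW 1
        rw [mono_oneW, map_one]
    · change ψ (mono 0 1) = mono 0 1
      rw [mono_zero, map_one]
    · intro u v hu hv h1 h2
      have h : mono ⟨u + v, add_mem hu hv⟩ 1 = mono ⟨u, hu⟩ 1 * mono ⟨v, hv⟩ 1 := by
        rw [mono_mul, one_mul, permW_one]; rfl
      rw [h, map_mul, h1, h2]
    · intro a u hu h1
      have ha : a = 0 ∨ a = 1 := by revert a; decide
      rcases ha with rfl | rfl
      · simp only [zero_smul]
        change ψ (mono 0 1) = mono 0 1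
        rw [mono_zero, map_one]
      · simp only [one_smul]
        exact h1
  obtain ⟨c, τ, rfl⟩ := mem_F1_iff.1 hx
  have h : mono c τ = mono c 1 * iota τ := by
    rw [iota_eq, mono_mul, one_mul, permW_one, add_zero]
  rw [h, map_mul, fix_iota hψ, show ψ (mono c 1) = mono c 1 from hsig c.1 c.2]

/-! ### Outside the frame subgroup -/

theorem exists_moving : ∃ x ∈ Nd, x • baseCls = clsA := by
  suffices h : ∃ x ∈ Nd, x • baseCls ≠ baseCls by
    obtain ⟨x, hx, hne⟩ := h
    rcases normal_base hx with e | e | e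
    · exact absurd e hne
    · exact ⟨x, hx, e⟩
    · exact ⟨iota zM * x, Subgroup.mul_mem _ zB_mem hx, by rw [mul_smul, e, zB_cls.2.1]⟩
  by_contra! hall
  have hC : Nat.card (Subgroup.centralizer ({dB} : Set Spor.Co1)) ≤ 22 := by
    have hsub : (Subgroup.centralizer ({dB} : Set Spor.Co1) : Set Spor.Co1) ⊆
        (Subgroup.zpowers dB : Set Spor.Co1) ∪ (epsB * ·) '' (Subgroup.zpowers dB : Set Spor.Co1) := by
      intro x hx
      have hxd := Subgroup.mem_centralizer_singleton_iff.1 hx
      have hxN : x ∈ Nd := mem_normalizer_zpowers_iff.2 (by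
        rw [hxd, mul_inv_cancel_right]; exact Subgroup.mem_zpowers _)
      obtain ⟨c, τ, rfl⟩ := mem_F1_iff.1 (smul_base_iff.1 (hall x hxN))
      have h1 := (mono_swap (σ := doubleM) (σ' := doubleM) (by rw [← dB_eq]; exact hxd)).1
      obtain ⟨n, hn⟩ := Subgroup.mem_zpowers_iff.1 (m24_centralizer_double h1)
      have hd : iota τ = dB ^ n := by rw [← hn, map_zpow]; rfl
      have hτN : iota τ ∈ Nd := hd ▸ Subgroup.le_normalizer (Subgroup.zpow_mem _
        (Subgroup.mem_zpowers _) n)
      have hq : mono c τ = mono c 1 * iota τ := by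
        rw [iota_eq, mono_mul, one_mul, permW_one, add_zero]
      have hqN : mono c 1 ∈ Nd := by
        have := Subgroup.mul_mem _ hxN (Subgroup.inv_mem _ hτN)
        rwa [hq, mul_inv_cancel_right] at this
      rcases sign_in_N hqN with e | e
      · exact Or.inl (by rw [hq, e, one_mul, hd]; exact ⟨n, rfl⟩)
      · exact Or.inr ⟨dB ^ n, ⟨n, rfl⟩, by rw [hq, e, hd]⟩
    have := Set.ncard_le_ncard hsub (Set.toFinite _)
    rw [← Nat.card_coe_set_eq] at this
    refine le_trans this (le_trans (Set.ncard_union_le _ _) ?_)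
    have h11 : (Subgroup.zpowers dB : Set Spor.Co1).ncard = 11 := by
      rw [← Nat.card_coe_set_eq, SetLike.coe_sort_coe, Nat.card_zpowers, orderOf_dB]
    rw [Set.ncard_image_of_injective _ (mul_right_injective epsB), h11]
  have hle := card_normalizer_le (by norm_num : Nat.Prime 11) orderOf_dB hC
  have h55 : 55 ∣ Nat.card Nd := by
    rw [← card_normalizer_dM, ← Subgroup.card_map_of_injective iota23_injective]
    exact Subgroup.card_dvd_of_le (by rintro _ ⟨y, hy, rfl⟩; exact iota23_mem_normalizer hy)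
  have h2 : 2 ∣ Nat.card Nd := by
    haveI : Fact (Nat.Prime 2) := ⟨Nat.prime_two⟩
    rw [← orderOf_eq_prime (x := epsB) (p := 2) (by rw [sq, epsB_sq]) epsB_ne_one]
    exact Subgroup.orderOf_dvd_natCard _ epsB_mem
  obtain ⟨k, hk⟩ := (by norm_num : Nat.Coprime 55 2).mul_dvd_of_dvd_of_dvd h55 h2
  have hi := index_normalizer_mod (by norm_num : Nat.Prime 11) sq11_co1 orderOf_dB
  have h3 := Subgroup.index_mul_card Nd
  rw [hk] at hle h3
  rw [card_co1] at h3
  have hpos : 0 < k := by
    rcases Nat.eq_zero_or_pos k with rfl | h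
    · simp at h3
    · exact h
  have hk2 : k ≤ 2 := by omega
  interval_cases k <;> omega

theorem eq_one_or_eps {h : Spor.Co1} (hN : h ∈ Nd) (hb : h • baseCls = baseCls)
    (hc : ∀ μ ∈ N55, h * iota23 μ = iota23 μ * h) : h = 1 ∨ h = epsB := by
  obtain ⟨c, τ, rfl⟩ := mem_F1_iff.1 (smul_base_iff.1 hb)
  have hcomm : ∀ μ ∈ N55, τ * toM24 μ = toM24 μ * τ := fun μ hμ => (mono_swap (hc μ hμ)).1
  have hd : dM ∈ N55 := Subgroup.le_normalizer (Subgroup.mem_zpowers _)
  have hmem : τ ∈ Subgroup.zpowers doubleM := m24_centralizer_double (hcomm dM hd)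
  have hτ : τ = 1 := by
    by_contra hne
    have he : Subgroup.zpowers τ = Subgroup.zpowers doubleM :=
      Subgroup.eq_of_le_of_card_ge (Subgroup.zpowers_le.2 hmem) (by
        have h := Subgroup.orderOf_dvd_natCard _ hmem
        rw [Nat.card_zpowers, doubleM_orderOf] at h
        rcases (Nat.dvd_prime (by norm_num : Nat.Prime 11)).1 h with e | e
        · exact absurd (orderOf_eq_one_iff.1 e) hne
        · rw [Nat.card_zpowers, Nat.card_zpowers, e, doubleM_orderOf])
    obtain ⟨n, hn⟩ := Subgroup.mem_zpowers_iff.1 (he.ge (Subgroup.mem_zpowers doubleM))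
    have hle : N55 ≤ Subgroup.zpowers dM := fun μ hμ => by
      refine mem_zpowers_dM (toM24_injective ?_)
      rw [map_mul, map_mul, show toM24 dM = doubleM from rfl, ← hn]
      exact ((show Commute (toM24 μ) τ from (hcomm μ hμ).symm).zpow_right n).eq
    have := Subgroup.card_dvd_of_le hle
    rw [card_normalizer_dM, Nat.card_zpowers, orderOf_dM] at this
    norm_num at this
  subst hτ
  exact sign_in_N hN

theorem image_not_B (hF : ∀ f ∈ F1, ψ f = f) {x : Spor.Co1} (hxA : x • baseCls = clsA)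
    (hxB : ψ x • baseCls = clsB) : False := by
  obtain ⟨k, hkB, hk2, hk3⟩ := separated
  -- an element fixes a shifted class exactly when its image fixes the image class
  have key : ∀ (g : Co0), g ∈ frameStab → ∀ k0 : Spor.Co1,
      ψ k0 • g • clsB = g • clsB ↔ k0 • g • clsA = g • clsA := by
    intro g hg k0
    have hf := hF (toCo1 g) ⟨g, hg, rfl⟩
    have hA : g • clsA = (toCo1 g * x) • baseCls := by rw [mul_smul, hxA]; rfl
    have hB : g • clsB = ψ (toCo1 g * x) • baseCls := by rw [map_mul, hf, mul_smul, hxB]; rfl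
    have hiff : ∀ k' y : Spor.Co1, k' • y • baseCls = y • baseCls ↔ y⁻¹ * k' * y ∈ F1 :=
      fun k' y => by rw [← smul_base_iff, mul_smul, mul_smul, inv_smul_eq_iff]
    rw [hA, hB, hiff, hiff, ← map_inv, ← map_mul, ← map_mul]
    constructor
    · intro h
      rw [← ψ.injective (hF _ h)]
      exact h
    · intro h
      rw [hF _ h]
      exact h
  obtain ⟨k0, rfl⟩ := ψ.surjective k
  have h1 : k0 • clsA = clsA := by
    have := (key 1 (one_mem _) k0).1 (by rw [one_smul]; exact hkB)
    rwa [one_smul] at this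
  have hmem2 : wordTwo ∈ frameStab := by
    simp only [wordTwo, lS, lC, lZ]
    repeat' (apply Subgroup.mul_mem)
    all_goals exact permHom_mem_frameStab _
  have hmem3 : wordThree ∈ frameStab := by
    simp only [wordThree, lS, lC, lZ, lE]
    repeat' (apply Subgroup.mul_mem)
    all_goals first
      | exact permHom_mem_frameStab _
      | exact signs_mem_frameStab _ _
  have h2 : k0 • cls (wordTwo • wA) = cls (wordTwo • wA) := (key wordTwo hmem2 k0).1 hk2
  exact hk3 ((key wordThree hmem3 k0).2 (fix_third h1 h2))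

theorem fix_moving (hψ : ∀ μ, ψ (iota23 μ) = iota23 μ) {x : Spor.Co1} (hxN : x ∈ Nd)
    (hxA : x • baseCls = clsA) : ψ x = x := by
  have hF : ∀ f ∈ F1, ψ f = f := fun f hf => fix_F1 hψ hf
  have hψd : ψ dB = dB := hψ dM
  have hyN : ψ x ∈ Nd := map_mem_normalizer ψ (by rw [hψd]; exact Subgroup.mem_zpowers _) hxN
  have hyA : ψ x • baseCls = clsA := by
    rcases normal_base hyN with e | e | e
    · exfalso
      have h1 := ψ.injective (hF _ (smul_base_iff.1 e))
      rw [h1, hxA] at e
      exact cls_distinct.1 e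
    · exact e
    · exact (image_not_B hF hxA e).elim
  have hb : (x⁻¹ * ψ x) • baseCls = baseCls := by
    rw [mul_smul, hyA, inv_smul_eq_iff, hxA]
  have hc : ∀ μ ∈ N55, (x⁻¹ * ψ x) * iota23 μ = iota23 μ * (x⁻¹ * ψ x) := by
    intro μ hμ
    have hN : x * iota23 μ * x⁻¹ ∈ Nd :=
      Subgroup.mul_mem _ (Subgroup.mul_mem _ hxN (iota23_mem_normalizer hμ))
        (Subgroup.inv_mem _ hxN)
    obtain ⟨μ', hμ'⟩ := odd_normal hN (by rw [conj_pow, ← map_pow, m23_pow55 hμ, map_one]; group)
    have h1 : ψ x * iota23 μ * (ψ x)⁻¹ = x * iota23 μ * x⁻¹ := by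
      conv_lhs => rw [← hψ μ]
      rw [← map_inv, ← map_mul, ← map_mul, ← hμ', hψ]
    calc (x⁻¹ * ψ x) * iota23 μ = x⁻¹ * (ψ x * iota23 μ * (ψ x)⁻¹) * ψ x := by group
      _ = iota23 μ * (x⁻¹ * ψ x) := by rw [h1]; group
  rcases eq_one_or_eps (Subgroup.mul_mem _ (Subgroup.inv_mem _ hxN) hyN) hb hc with e | e
  · exact (inv_mul_eq_one.1 e).symm
  exfalso
  have hy : ψ x = x * epsB := inv_mul_eq_iff_eq_mul.1 e
  have he : epsB * epsB = 1 := epsB_sq
  rcases normal_base (Subgroup.mul_mem _ hxN hxN) with h | h | h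
  · have h1 := hF _ (smul_base_iff.1 h)
    rw [map_mul, hy] at h1
    have h2 : epsB * x = x * epsB := by
      have h3 : epsB * x * epsB = x := mul_left_cancel (a := x) (by simpa only [mul_assoc] using h1)
      calc epsB * x = epsB * x * (epsB * epsB) := by rw [he, mul_one]
        _ = epsB * x * epsB * epsB := by simp only [mul_assoc]
        _ = x * epsB := by rw [h3]
    have h4 : clsB = clsA := by
      calc clsB = (epsB * x) • baseCls := by rw [mul_smul, hxA, epsB_cls.1]
        _ = (x * epsB) • baseCls := by rw [h2]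
        _ = clsA := by rw [mul_smul, epsB_cls.2.2, hxA]
    exact cls_distinct.2.2 h4.symm
  · rw [mul_smul, hxA] at h
    exact cls_distinct.1 (MulAction.injective x (show x • clsA = x • baseCls by rw [h, hxA]))
  · have hf : ((iota zM * x)⁻¹ * (x * x)) • baseCls = baseCls := by
      rw [mul_smul, h, inv_smul_eq_iff, mul_smul, hxA, zB_cls.1]
    have h1 := hF _ (smul_base_iff.1 hf)
    rw [map_mul, map_inv, map_mul, map_mul, fix_zB hψ, hy] at h1
    have h2 : (x * epsB * (x * epsB)) • baseCls = clsB := by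
      have h3 := inv_mul_eq_iff_eq_mul.1 h1
      rw [h3, mul_smul, hf, mul_smul, mul_smul, epsB_cls.2.2, hxA, zB_cls.1]
    rw [mul_smul, mul_smul, mul_smul, epsB_cls.2.2, hxA, epsB_cls.1] at h2
    rw [mul_smul, hxA] at h
    exact cls_distinct.2.2 (MulAction.injective x (h.trans h2.symm))

theorem inn_co1 (φ : MulAut Spor.Co1) : φ ∈ Cfsg.Inn Spor.Co1 := by
  obtain ⟨g, hψ⟩ := exists_fix_m23 φ
  set ψ := MulAut.conj g * φ with hψdef
  obtain ⟨x, hxN, hxA⟩ := exists_moving
  let K : Subgroup Co0 := (ψ.toMonoidHom.eqLocus (MonoidHom.id Spor.Co1)).comap toCo1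
  have hFK : frameStab ≤ K := fun t ht => fix_F1 hψ ⟨t, ht, rfl⟩
  obtain ⟨t, rfl⟩ := QuotientGroup.mk'_surjective _ x
  have hlt : frameStab < K := by
    refine SetLike.lt_iff_le_and_exists.2 ⟨hFK, t, fix_moving hψ hxN hxA, fun ht => ?_⟩
    exact cls_distinct.1 (hxA.symm.trans (smul_base_iff.2 ⟨t, ht, rfl⟩))
  have hK : K = ⊤ := frameStab_isCoatom.2 K hlt
  have hψ1 : ψ = 1 := MulEquiv.ext fun y => by
    obtain ⟨s, rfl⟩ := QuotientGroup.mk'_surjective _ y
    exact (show s ∈ K by rw [hK]; exact Subgroup.mem_top s)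
  have : φ = (MulAut.conj g)⁻¹ := eq_inv_of_mul_eq_one_right hψ1
  rw [this]
  exact Subgroup.inv_mem _ ⟨g, rfl⟩

theorem card_out_co1 : Nat.card (Cfsg.Out Spor.Co1) = 1 :=
  CfsgLib.Mathieu.card_out_eq_one inn_co1

end CfsgLib.CoOut
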